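import Mathlib
import Cfsg.Agent.Lib.Helper79.NilCover.Defs

/-!
# S3894, package [PR]: for a non-diagonal `2 x 2` matrix `t` over a finite field with at least
three elements, some matrix of determinant one does not normalise `span(1, t)`
-/

set_option autoImplicit false

namespace Cfsg.Agent.Lib.Helper3.NilCover

open Matrix

universe u

/-- A finite field with at least three elements has an element different from `0` and from a
given `r`. -/
theorem exists_ne_zero_ne {F : Type u} [Field F] [Fintype F] (hq : 3 ≤ Fintype.card F) (r : F) :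
    ∃ β : F, β ≠ 0 ∧ β ≠ r := by
  classical
  by_contra hcon
  push Not at hcon
  have hsub : (Finset.univ : Finset F) ⊆ {0, r} := by
    intro β _
    by_cases h0 : β = 0
    · simp [h0]
    · simp [hcon β h0]
  have h1 := Finset.card_le_card hsub
  have h2 : ({0, r} : Finset F).card ≤ 2 := Finset.card_le_two
  rw [Finset.card_univ] at h1
  omega

/-- **Package [PR].** -/
theorem pkgProper : Cfsg.Agent.Lib.Helper79.NilCover.PkgProper.{u} := by
  intro F _ _ hq t ht
  by_cases hc : t 1 0 ≠ 0
  · obtain ⟨β, hβ0, hβ⟩ := exists_ne_zero_ne hq ((t 1 1 - t 0 0) / t 1 0)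
    refine ⟨!![1, β; 0, 1], by simp [Matrix.det_fin_two], ?_⟩
    rintro ⟨x, y, hy, h⟩
    have e10 : (!![1, β; 0, 1] * t) 1 0 = t 1 0 := by
      simp [Matrix.mul_apply, Fin.sum_univ_two]
    have f10 : ((x • (1 : Matrix (Fin 2) (Fin 2) F) + y • t) * !![1, β; 0, 1]) 1 0
        = y * t 1 0 := by
      simp [Matrix.mul_apply, Fin.sum_univ_two]
    have e00 : (!![1, β; 0, 1] * t) 0 0 = t 0 0 + β * t 1 0 := by
      simp [Matrix.mul_apply, Fin.sum_univ_two]
    have f00 : ((x • (1 : Matrix (Fin 2) (Fin 2) F) + y • t) * !![1, β; 0, 1]) 0 0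
        = x + y * t 0 0 := by
      simp [Matrix.mul_apply, Fin.sum_univ_two]
    have e01 : (!![1, β; 0, 1] * t) 0 1 = t 0 1 + β * t 1 1 := by
      simp [Matrix.mul_apply, Fin.sum_univ_two]
    have f01 : ((x • (1 : Matrix (Fin 2) (Fin 2) F) + y • t) * !![1, β; 0, 1]) 0 1
        = (x + y * t 0 0) * β + y * t 0 1 := by
      simp [Matrix.mul_apply, Fin.sum_univ_two]
    have h10 : t 1 0 = y * t 1 0 := by
      have h' := congrFun (congrFun h 1) 0
      rw [e10, f10] at h'
      exact h'
    have h00 : t 0 0 + β * t 1 0 = x + y * t 0 0 := by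
      have h' := congrFun (congrFun h 0) 0
      rw [e00, f00] at h'
      exact h'
    have h01 : t 0 1 + β * t 1 1 = (x + y * t 0 0) * β + y * t 0 1 := by
      have h' := congrFun (congrFun h 0) 1
      rw [e01, f01] at h'
      exact h'
    have hy1 : y = 1 := by
      have h1 : t 1 0 * (y - 1) = 0 := by linear_combination -h10
      rcases mul_eq_zero.mp h1 with h2 | h2
      · exact absurd h2 hc
      · linear_combination h2
    subst hy1
    have hx : x = β * t 1 0 := by linear_combination -h00
    subst hx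
    have h3 : β * (t 1 1 - t 0 0 - β * t 1 0) = 0 := by linear_combination h01
    rcases mul_eq_zero.mp h3 with h4 | h4
    · exact hβ0 h4
    · apply hβ
      rw [eq_div_iff hc]
      linear_combination -h4
  · push Not at hc
    have hb : t 0 1 ≠ 0 := by
      rcases ht with h | h
      · exact h
      · exact absurd hc h
    obtain ⟨β, hβ0, hβ⟩ := exists_ne_zero_ne hq ((t 1 1 - t 0 0) / t 0 1)
    refine ⟨!![1, 0; β, 1], by simp [Matrix.det_fin_two], ?_⟩
    rintro ⟨x, y, hy, h⟩
    have e01 : (!![1, 0; β, 1] * t) 0 1 = t 0 1 := by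
      simp [Matrix.mul_apply, Fin.sum_univ_two]
    have f01 : ((x • (1 : Matrix (Fin 2) (Fin 2) F) + y • t) * !![1, 0; β, 1]) 0 1
        = y * t 0 1 := by
      simp [Matrix.mul_apply, Fin.sum_univ_two]
    have e00 : (!![1, 0; β, 1] * t) 0 0 = t 0 0 := by
      simp [Matrix.mul_apply, Fin.sum_univ_two]
    have f00 : ((x • (1 : Matrix (Fin 2) (Fin 2) F) + y • t) * !![1, 0; β, 1]) 0 0
        = x + y * t 0 0 + y * t 0 1 * β := by
      simp [Matrix.mul_apply, Fin.sum_univ_two]
    have e10 : (!![1, 0; β, 1] * t) 1 0 = β * t 0 0 + t 1 0 := by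
      simp [Matrix.mul_apply, Fin.sum_univ_two]
    have f10 : ((x • (1 : Matrix (Fin 2) (Fin 2) F) + y • t) * !![1, 0; β, 1]) 1 0
        = y * t 1 0 + (x + y * t 1 1) * β := by
      simp [Matrix.mul_apply, Fin.sum_univ_two]
    have h01 : t 0 1 = y * t 0 1 := by
      have h' := congrFun (congrFun h 0) 1
      rw [e01, f01] at h'
      exact h'
    have h00 : t 0 0 = x + y * t 0 0 + y * t 0 1 * β := by
      have h' := congrFun (congrFun h 0) 0
      rw [e00, f00] at h'
      exact h'
    have h10 : β * t 0 0 + t 1 0 = y * t 1 0 + (x + y * t 1 1) * β := by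
      have h' := congrFun (congrFun h 1) 0
      rw [e10, f10] at h'
      exact h'
    have hy1 : y = 1 := by
      have h1 : t 0 1 * (y - 1) = 0 := by linear_combination -h01
      rcases mul_eq_zero.mp h1 with h2 | h2
      · exact absurd h2 hb
      · linear_combination h2
    subst hy1
    have hx : x = -(t 0 1 * β) := by linear_combination -h00
    subst hx
    have h3 : β * (t 1 1 - t 0 0 - β * t 0 1) = 0 := by linear_combination -h10
    rcases mul_eq_zero.mp h3 with h4 | h4
    · exact hβ0 h4
    · apply hβ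
      rw [eq_div_iff hb]
      linear_combination -h4

end Cfsg.Agent.Lib.Helper3.NilCover
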