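import Mathlib
import Cfsg.Agent.Lib.Helper79.NilCover.Defs

/-!
# S3894, package [U]: the regular unipotent matrix `ncU` has determinant one, fixes the first
basis vector, and all its eigenvectors are multiples of that vector
-/

set_option autoImplicit false

namespace Cfsg.Agent.Lib.Helper3.NilCover

open Matrix Cfsg.Agent.Lib.Helper79.NilCover

universe u

/-- the action of `ncU` on a column vector -/
theorem ncU_mulVec_apply (n : ℕ) (F : Type u) [Field F] (w : Fin n → F) (i : Fin n) :
    (ncU n F *ᵥ w) i = w i + (if h : i.val + 1 < n then w ⟨i.val + 1, h⟩ else 0) := by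
  classical
  have hterm : ∀ j : Fin n, ncU n F i j * w j =
      (if j = i then w j else 0) + (if j.val = i.val + 1 then w j else 0) := by
    intro j
    unfold ncU
    by_cases h1 : j = i
    · have h2 : ¬ j.val = i.val + 1 := by
        rw [h1]
        omega
      rw [if_pos (Or.inl h1), if_pos h1, if_neg h2, one_mul, add_zero]
    · by_cases h2 : j.val = i.val + 1
      · rw [if_pos (Or.inr h2), if_neg h1, if_pos h2, one_mul, zero_add]
      · rw [if_neg (not_or.mpr ⟨h1, h2⟩), if_neg h1, if_neg h2, zero_mul, add_zero]
  have hsum : (ncU n F *ᵥ w) i = ∑ j : Fin n, ncU n F i j * w j := rfl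
  rw [hsum, Finset.sum_congr rfl (fun j _ => hterm j), Finset.sum_add_distrib,
    Finset.sum_ite_eq' Finset.univ i w, if_pos (Finset.mem_univ i)]
  congr 1
  by_cases h : i.val + 1 < n
  · rw [dif_pos h]
    have hiff : ∀ j : Fin n, (if j.val = i.val + 1 then w j else 0)
        = (if j = (⟨i.val + 1, h⟩ : Fin n) then w j else 0) := by
      intro j
      by_cases hj : j.val = i.val + 1
      · rw [if_pos hj, if_pos (Fin.ext hj)]
      · rw [if_neg hj, if_neg (fun h' => hj (congrArg Fin.val h'))]
    rw [Finset.sum_congr rfl (fun j _ => hiff j),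
      Finset.sum_ite_eq' Finset.univ (⟨i.val + 1, h⟩ : Fin n) w, if_pos (Finset.mem_univ _)]
  · rw [dif_neg h]
    apply Finset.sum_eq_zero
    intro j _
    have hj : ¬ j.val = i.val + 1 := by
      have := j.2
      omega
    rw [if_neg hj]

/-- **Package [U].** -/
theorem pkgU : Cfsg.Agent.Lib.Helper79.NilCover.PkgU.{u} := by
  intro n F _ hn
  classical
  refine ⟨?_, ?_, ?_⟩
  · -- determinant
    have htri : (ncU n F).BlockTriangular id := by
      intro i j hij
      have hij' : j < i := hij
      have hlt : j.val < i.val := hij'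
      unfold ncU
      have h1 : ¬ (j = i ∨ j.val = i.val + 1) := by
        rintro (h | h)
        · rw [h] at hlt
          exact lt_irrefl _ hlt
        · omega
      rw [if_neg h1]
    rw [Matrix.det_of_isUpperTriangular htri]
    apply Finset.prod_eq_one
    intro i _
    unfold ncU
    rw [if_pos (Or.inl rfl)]
  · -- the fixed vector
    ext i
    rw [ncU_mulVec_apply]
    by_cases hi : i = ⟨0, hn⟩
    · have h1 : ∀ h : i.val + 1 < n,
          (Pi.single (⟨0, hn⟩ : Fin n) (1 : F) : Fin n → F) ⟨i.val + 1, h⟩ = 0 := by
        intro h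
        rw [Pi.single_apply, if_neg]
        intro h'
        have := congrArg Fin.val h'
        simp at this
      by_cases h : i.val + 1 < n
      · rw [dif_pos h, h1 h, add_zero]
      · rw [dif_neg h, add_zero]
    · have h0 : (Pi.single (⟨0, hn⟩ : Fin n) (1 : F) : Fin n → F) i = 0 := by
        rw [Pi.single_apply, if_neg hi]
      have h1 : ∀ h : i.val + 1 < n,
          (Pi.single (⟨0, hn⟩ : Fin n) (1 : F) : Fin n → F) ⟨i.val + 1, h⟩ = 0 := by
        intro h
        rw [Pi.single_apply, if_neg]
        intro h'
        have := congrArg Fin.val h'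
        simp at this
      by_cases h : i.val + 1 < n
      · rw [dif_pos h, h1 h, add_zero]
      · rw [dif_neg h, add_zero]
  · -- eigenvectors
    intro w c hw
    obtain ⟨W, hW⟩ : ∃ W : ℕ → F, W = fun k => if h : k < n then w ⟨k, h⟩ else 0 := ⟨_, rfl⟩
    have hWn : ∀ k, n ≤ k → W k = 0 := by
      intro k hk
      rw [hW]
      exact dif_neg (not_lt.mpr hk)
    have hWi : ∀ i : Fin n, W i.val = w i := by
      intro i
      rw [hW]
      exact dif_pos i.2
    have hWlt : ∀ k (hk : k < n), W k = w ⟨k, hk⟩ := fun k hk => hWi ⟨k, hk⟩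
    have hrec : ∀ k, k < n → W (k + 1) = (c - 1) * W k := by
      intro k hk
      have h1 := congrFun hw ⟨k, hk⟩
      rw [ncU_mulVec_apply, Pi.smul_apply, smul_eq_mul] at h1
      have h2 : W (k + 1) = (if h : k + 1 < n then w ⟨k + 1, h⟩ else 0) := by
        rw [hW]
      rw [h2, hWlt k hk]
      linear_combination h1
    have hpow : ∀ k, k ≤ n → W k = (c - 1) ^ k * W 0 := by
      intro k
      induction k with
      | zero =>
        intro _
        rw [pow_zero, one_mul]
      | succ k ih =>
        intro hk
        rw [hrec k (by omega), ih (by omega)]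
        ring
    by_cases hc : c = 1
    · refine ⟨W 0, ?_⟩
      ext i
      rw [Pi.smul_apply, smul_eq_mul, Pi.single_apply]
      by_cases hi : i = ⟨0, hn⟩
      · rw [if_pos hi, mul_one, hi]
        exact (hWlt 0 hn).symm
      · rw [if_neg hi, mul_zero]
        have hpos : 0 < i.val := by
          rcases Nat.eq_zero_or_pos i.val with h | h
          · exact absurd (Fin.ext h) hi
          · exact h
        obtain ⟨k, hk⟩ : ∃ k, i.val = k + 1 := ⟨i.val - 1, by omega⟩
        have hkn : k < n := by
          have := i.2
          omega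
        rw [← hWi i, hk, hrec k hkn, hc]
        ring
    · refine ⟨0, ?_⟩
      have h0 : W 0 = 0 := by
        have h1 := hpow n le_rfl
        rw [hWn n le_rfl] at h1
        have hne : (c - 1) ^ n ≠ 0 := pow_ne_zero _ (sub_ne_zero.mpr hc)
        exact (mul_eq_zero.mp h1.symm).resolve_left hne
      ext i
      rw [zero_smul, Pi.zero_apply, ← hWi i, hpow i.val (le_of_lt i.2), h0, mul_zero]

end Cfsg.Agent.Lib.Helper3.NilCover
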