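import Mathlib
import Cfsg.Agent.Lib.Helper79.NilCover.Defs

/-!
# S3894, package [UD]: the last basis row vector is fixed by the regular unipotent matrix
`ncU`, and all left eigenvectors of `ncU` are multiples of it
-/

set_option autoImplicit false

namespace Cfsg.Agent.Lib.Helper3.NilCover

open Matrix Cfsg.Agent.Lib.Helper79.NilCover

universe u

/-- the action of `ncU` on a row vector -/
theorem vecMul_ncU_apply (n : ℕ) (F : Type u) [Field F] (w : Fin n → F) (j : Fin n) :
    (w ᵥ* ncU n F) j = w j +
      (if _h : 1 ≤ j.val then w ⟨j.val - 1, lt_of_le_of_lt (Nat.sub_le _ _) j.2⟩ else 0) := by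
  classical
  have hterm : ∀ i : Fin n, w i * ncU n F i j =
      (if i = j then w i else 0) + (if i.val + 1 = j.val then w i else 0) := by
    intro i
    unfold ncU
    by_cases h1 : i = j
    · have h2 : ¬ i.val + 1 = j.val := by
        rw [h1]
        omega
      rw [if_pos (Or.inl h1.symm), if_pos h1, if_neg h2, mul_one, add_zero]
    · by_cases h2 : i.val + 1 = j.val
      · rw [if_pos (Or.inr h2.symm), if_neg h1, if_pos h2, mul_one, zero_add]
      · rw [if_neg (not_or.mpr ⟨fun h => h1 h.symm, fun h => h2 h.symm⟩), if_neg h1, if_neg h2,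
          mul_zero, add_zero]
  have hsum : (w ᵥ* ncU n F) j = ∑ i : Fin n, w i * ncU n F i j := rfl
  rw [hsum, Finset.sum_congr rfl (fun i _ => hterm i), Finset.sum_add_distrib,
    Finset.sum_ite_eq' Finset.univ j w, if_pos (Finset.mem_univ j)]
  congr 1
  by_cases h : 1 ≤ j.val
  · rw [dif_pos h]
    have hiff : ∀ i : Fin n, (if i.val + 1 = j.val then w i else 0)
        = (if i = (⟨j.val - 1, lt_of_le_of_lt (Nat.sub_le _ _) j.2⟩ : Fin n) then w i else 0) := by
      intro i
      by_cases hi : i.val + 1 = j.val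
      · rw [if_pos hi, if_pos (Fin.ext (by simp only; omega))]
      · rw [if_neg hi, if_neg]
        intro h'
        apply hi
        have := congrArg Fin.val h'
        simp only at this
        omega
    rw [Finset.sum_congr rfl (fun i _ => hiff i),
      Finset.sum_ite_eq' Finset.univ
        (⟨j.val - 1, lt_of_le_of_lt (Nat.sub_le _ _) j.2⟩ : Fin n) w,
      if_pos (Finset.mem_univ _)]
  · rw [dif_neg h]
    apply Finset.sum_eq_zero
    intro i _
    have hi : ¬ i.val + 1 = j.val := by omega
    rw [if_neg hi]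

/-- the first entry -/
theorem vecMul_ncU_zero (n : ℕ) (F : Type u) [Field F] (w : Fin n → F) (hn : 0 < n) :
    (w ᵥ* ncU n F) ⟨0, hn⟩ = w ⟨0, hn⟩ := by
  rw [vecMul_ncU_apply, dif_neg (by simp), add_zero]

/-- the later entries -/
theorem vecMul_ncU_succ (n : ℕ) (F : Type u) [Field F] (w : Fin n → F) (k : ℕ)
    (hk : k + 1 < n) :
    (w ᵥ* ncU n F) ⟨k + 1, hk⟩ = w ⟨k + 1, hk⟩ + w ⟨k, Nat.lt_of_succ_lt hk⟩ := by
  rw [vecMul_ncU_apply, dif_pos (Nat.le_add_left 1 k)]
  rfl

/-- **Package [UD].** -/
theorem pkgUDual : Cfsg.Agent.Lib.Helper79.NilCover.PkgUDual.{u} := by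
  intro n F _ hn
  classical
  refine ⟨?_, ?_⟩
  · -- the fixed row vector
    ext j
    rw [vecMul_ncU_apply]
    by_cases h : 1 ≤ j.val
    · rw [dif_pos h]
      have h1 : (Pi.single (⟨n - 1, Nat.sub_lt hn Nat.one_pos⟩ : Fin n) (1 : F) : Fin n → F)
          ⟨j.val - 1, lt_of_le_of_lt (Nat.sub_le _ _) j.2⟩ = 0 := by
        rw [Pi.single_apply, if_neg]
        intro h'
        have h2 := congrArg Fin.val h'
        have h3 := j.2
        simp only at h2
        omega
      rw [h1, add_zero]
    · rw [dif_neg h, add_zero]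
  · -- left eigenvectors
    intro w c hw
    obtain ⟨W, hW⟩ : ∃ W : ℕ → F, W = fun k => if h : k < n then w ⟨k, h⟩ else 0 := ⟨_, rfl⟩
    have hWi : ∀ i : Fin n, W i.val = w i := by
      intro i
      rw [hW]
      exact dif_pos i.2
    have hWlt : ∀ k (hk : k < n), W k = w ⟨k, hk⟩ := fun k hk => hWi ⟨k, hk⟩
    have h0 : (c - 1) * W 0 = 0 := by
      have h1 := congrFun hw ⟨0, hn⟩
      rw [vecMul_ncU_zero, Pi.smul_apply, smul_eq_mul] at h1
      rw [hWlt 0 hn]
      linear_combination -h1
    have hrec : ∀ k, k + 1 < n → W k = (c - 1) * W (k + 1) := by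
      intro k hk
      have h1 := congrFun hw ⟨k + 1, hk⟩
      rw [vecMul_ncU_succ, Pi.smul_apply, smul_eq_mul] at h1
      rw [hWlt k (Nat.lt_of_succ_lt hk), hWlt (k + 1) hk]
      linear_combination h1
    by_cases hc : c = 1
    · refine ⟨W (n - 1), ?_⟩
      ext i
      rw [Pi.smul_apply, smul_eq_mul, Pi.single_apply]
      by_cases hi : i = ⟨n - 1, Nat.sub_lt hn Nat.one_pos⟩
      · rw [if_pos hi, mul_one, hi]
        exact (hWlt (n - 1) (Nat.sub_lt hn Nat.one_pos)).symm
      · rw [if_neg hi, mul_zero]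
        have hlt : i.val + 1 < n := by
          have h1 := i.2
          have h2 : i.val ≠ n - 1 := fun h => hi (Fin.ext h)
          omega
        rw [← hWi i, hrec i.val hlt, hc]
        ring
    · refine ⟨0, ?_⟩
      have hc1 : c - 1 ≠ 0 := sub_ne_zero.mpr hc
      have hall : ∀ k, k < n → W k = 0 := by
        intro k
        induction k with
        | zero =>
          intro _
          exact (mul_eq_zero.mp h0).resolve_left hc1
        | succ k ih =>
          intro hk
          have h1 := hrec k hk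
          rw [ih (Nat.lt_of_succ_lt hk)] at h1
          exact (mul_eq_zero.mp h1.symm).resolve_left hc1
      ext i
      rw [zero_smul, Pi.zero_apply, ← hWi i, hall i.val i.2]

end Cfsg.Agent.Lib.Helper3.NilCover
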